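import Groth.Agent.Lib.SectCut
import Groth.Agent.Lib.NumTrivVanish
import Groth.Agent.Lib.AsympCoh
import Groth.Agent.Lib.BigVol
import Groth.Agent.Lib.NumTrivGrowth

/-!
Growth of the higher cohomology of powers of a globally generated invertible module: one degree below
the dimension of the support.
-/

set_option autoImplicit false
set_option linter.style.haveILetI false
set_option linter.unusedSectionVars false
set_option backward.isDefEq.respectTransparency false
set_option backward.isDefEq.respectTransparency.types false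
set_option maxHeartbeats 1000000

universe u

open CategoryTheory CategoryTheory.Limits AlgebraicGeometry TopologicalSpace Opposite

noncomputable section

namespace Groth.Agent.CohGlobGrowth

open Groth.Agent Groth.Agent.H23 Groth.Agent.UniformGrowth Groth.Agent.CohGrowth
open scoped Groth.Agent.H23.PicMul

section Avoid

variable {X : Scheme.{u}} {L : X.Modules}

theorem loc_eq {N : X.Modules} (a : Γ(N, ⊤)) : TrivBasic.locus a = AmpleX.locus a := by
  show CohB1.genLocus N (InvX.ofSect a) = _
  rw [AmpleX.genLocus_eq_locus, InvX.one_ofSect]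

theorem mem_locus_add {N : X.Modules} (hN : PicF.IsInvertible N) (a b : Γ(N, ⊤)) {z : X}
    (ha : z ∈ TrivBasic.locus a) (hb : z ∉ TrivBasic.locus b) : z ∈ TrivBasic.locus (a + b) := by
  obtain ⟨V, hzV, e, he⟩ := InvX.exists_frame hN z
  have key : ∀ s : Γ(N, ⊤), ∃ c : Γ(X, V), AModX.res N (le_top : V ≤ ⊤) s = c • e ∧
      (z ∈ TrivBasic.locus s ↔ IsUnit (X.presheaf.germ V z hzV c)) := fun s => by
    obtain ⟨c, hc⟩ := he.exists_coord le_rfl (AModX.res N (le_top : V ≤ ⊤) s)
    rw [AModX.res_self] at hc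
    refine ⟨c, hc, AmpleX.mem_genLocus_iff (InvX.ofSect s) he ?_ hzV⟩
    rw [InvX.one_ofSect]
    exact hc
  obtain ⟨c, hc, hca⟩ := key a
  obtain ⟨d, hd, hdb⟩ := key b
  obtain ⟨f, hf, hfab⟩ := key (a + b)
  have hfc : f = c + d := he.coord_unique le_rfl (by
    rw [AModX.res_self, ← hf, map_add, hc, hd, ← add_smul])
  refine hfab.2 ?_
  rw [hfc, map_add]
  by_contra h
  have h2 : X.presheaf.germ V z hzV c = (X.presheaf.germ V z hzV c + X.presheaf.germ V z hzV d) +
    -(X.presheaf.germ V z hzV d) := by rw [add_neg_cancel_right]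
  have h3 : ¬ IsUnit (-(X.presheaf.germ V z hzV d)) := fun hu => hdb.not.1 hb (by simpa using hu.neg)
  exact IsLocalRing.nonunits_add h h3 (by rw [← h2]; exact hca.1 ha)

/-- A section of a power generating at `z` and vanishing at given points separated from `z`. -/
theorem exists_sep (hL : PicF.IsInvertible L) (hg : Curv2.IsGloballyGenerated L) (z : X) (W : Finset X)
    (h : ∀ w ∈ W, ∃ m : ℕ, 0 < m ∧ ∃ t : Γ(CohB1.tensorPow L m, ⊤), z ∈ TrivBasic.locus t ∧ w ∉ TrivBasic.locus t) :
    ∃ m : ℕ, 0 < m ∧ ∃ t : Γ(CohB1.tensorPow L m, ⊤),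
      z ∈ TrivBasic.locus t ∧ ∀ w ∈ W, w ∉ TrivBasic.locus t := by
  classical
  induction W using Finset.induction with
  | empty =>
    obtain ⟨t, ht⟩ := GenLocusGG.exists_mem_locus hL hg z
    rw [loc_eq] at ht
    obtain ⟨b, hb⟩ := AmpleX.exists_locus_cl (N := CohB1.tensorPow L 1) (show PicF.cl L = _ by
      rw [PicMul.cl_tensorPow, pow_one]) t
    refine ⟨1, Nat.one_pos, b, ?_, fun w hw => absurd hw (Finset.notMem_empty w)⟩
    rw [loc_eq, hb]
    exact ht
  | insert w W hw ih =>
    obtain ⟨m, hm, t, hzt, ht⟩ := ih fun v hv => h v (Finset.mem_insert_of_mem hv)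
    obtain ⟨n, hn, s, hzs, hs⟩ := h w (Finset.mem_insert_self w W)
    obtain ⟨b, hb⟩ := AmpleX.exists_locus_cl (N := CohB1.tensorPow L (m + n))
      (show PicF.cl (CohB1.tensorMod (CohB1.tensorPow L m) (CohB1.tensorPow L n)) = _ by
        rw [PicMul.cl_tensor, PicMul.cl_tensorPow, PicMul.cl_tensorPow, PicMul.cl_tensorPow, pow_add])
      (InvX.tmul t s)
    rw [AmpleX.locus_tmul (InvX.isInvertible_tensorPow hL _) (InvX.isInvertible_tensorPow hL _)] at hb
    rw [loc_eq] at hzt hzs hs
    simp only [loc_eq] at ht ⊢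
    refine ⟨m + n, by omega, b, by rw [hb]; exact ⟨hzt, hzs⟩, fun v hv hvb => ?_⟩
    rw [hb] at hvb
    rcases Finset.mem_insert.1 hv with rfl | hv
    · exact hs hvb.2
    · exact ht v hv hvb.1

/-- A section of some positive power of a globally generated invertible module generating at finitely
many points: no hypothesis on the ground ring. -/
theorem exists_pow_avoid (hL : PicF.IsInvertible L) (hg : Curv2.IsGloballyGenerated L) (Z : Finset X) :
    ∃ m : ℕ, 0 < m ∧ ∃ s : Γ(CohB1.tensorPow L m, ⊤), (Z : Set X) ⊆ TrivBasic.locus s := by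
  classical
  induction Z using Finset.strongInductionOn with
  | _ Z IH =>
    by_cases hne : Z.Nonempty
    swap
    · exact ⟨1, Nat.one_pos, 0, by rw [Finset.not_nonempty_iff_eq_empty.1 hne]; simp⟩
    obtain ⟨z, hz⟩ := hne
    obtain ⟨a, ha, s, hs⟩ := IH (Z.erase z) (Finset.erase_ssubset hz)
    by_cases hzs : z ∈ TrivBasic.locus s
    · refine ⟨a, ha, s, fun x hx => ?_⟩
      by_cases hxz : x = z
      · exact hxz ▸ hzs
      · exact hs (Finset.mem_erase.2 ⟨hxz, hx⟩)
    by_cases hall : ∀ w ∈ Z.erase z, ∃ m : ℕ, 0 < m ∧ ∃ t : Γ(CohB1.tensorPow L m, ⊤),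
        z ∈ TrivBasic.locus t ∧ w ∉ TrivBasic.locus t
    swap
    · push_neg at hall
      obtain ⟨w, hw, hno⟩ := hall
      obtain ⟨m, hm, t, ht⟩ := IH (Z.erase w) (Finset.erase_ssubset (Finset.mem_of_mem_erase hw))
      refine ⟨m, hm, t, fun x hx => ?_⟩
      have hzt : z ∈ TrivBasic.locus t := ht (Finset.mem_erase.2 ⟨(Finset.ne_of_mem_erase hw).symm, hz⟩)
      by_cases hxw : x = w
      · exact hxw ▸ hno m hm t hzt
      · exact ht (Finset.mem_erase.2 ⟨hxw, hx⟩)
    obtain ⟨b, hb, t, hzt, ht⟩ := exists_sep hL hg z (Z.erase z) hall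
    obtain ⟨s', hs'⟩ := AmpleX.exists_pow_section hL s hb
    obtain ⟨t', ht'⟩ := AmpleX.exists_pow_section hL t ha
    obtain ⟨t'', ht''⟩ := AmpleX.exists_locus_cl (N := CohB1.tensorPow L (a * b))
      (show PicF.cl (CohB1.tensorPow L (b * a)) = _ by rw [mul_comm b a]) t'
    replace hs' : TrivBasic.locus s' = TrivBasic.locus s := by rw [loc_eq, loc_eq, hs']
    replace ht'' : TrivBasic.locus t'' = TrivBasic.locus t := by rw [loc_eq, loc_eq, ht'', ht']
    refine ⟨a * b, Nat.mul_pos ha hb, s' + t'', fun x hx => ?_⟩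
    have hinv := InvX.isInvertible_tensorPow hL (a * b)
    by_cases hxz : x = z
    · subst hxz
      rw [add_comm]
      exact mem_locus_add hinv t'' s' (ht''.symm ▸ hzt) (hs'.symm ▸ hzs)
    · have hxe : x ∈ Z.erase z := Finset.mem_erase.2 ⟨hxz, hx⟩
      exact mem_locus_add hinv s' t'' (hs'.symm ▸ hs hxe) (ht''.symm ▸ ht x hxe)

end Avoid

/-- The generic points of the components of a closed subset. -/
theorem exists_gen_points {Y : Type*} [TopologicalSpace Y] [NoetherianSpace Y] [QuasiSober Y] {C : Set Y}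
    (hC : IsClosed C) : ∃ G : Set Y, G.Finite ∧ ∀ C' : Set Y, IsClosed C' → C' ⊆ C → Disjoint G C' →
      ∀ r : ℕ, topologicalKrullDim ↥C ≤ ((r + 1 : ℕ) : WithBot ℕ∞) → topologicalKrullDim ↥C' ≤ (r : WithBot ℕ∞) := by
  haveI : QuasiSober ↥C := (IsClosed.isClosedEmbedding_subtypeVal hC).quasiSober
  let gp : irreducibleComponents ↥C → ↥C := fun K =>
    (QuasiSober.sober (α := ↥C) K.2.1 (isClosed_of_mem_irreducibleComponents _ K.2)).choose
  have hgp : ∀ K, IsGenericPoint (gp K) (K : Set ↥C) := fun K =>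
    (QuasiSober.sober (α := ↥C) K.2.1 (isClosed_of_mem_irreducibleComponents _ K.2)).choose_spec
  haveI : Finite (irreducibleComponents ↥C) := (NoetherianSpace.finite_irreducibleComponents (α := ↥C)).to_subtype
  refine ⟨Set.range (fun K => (gp K : Y)), Set.finite_range _, fun C' hC'c hC'C hdisj r hr => ?_⟩
  by_contra hlt
  rw [not_le] at hlt
  have h1 : ((r + 1 : ℕ) : WithBot ℕ∞) ≤ topologicalKrullDim ↥C' := by
    revert hlt
    generalize topologicalKrullDim ↥C' = d
    intro hlt
    cases d with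
    | bot => exact absurd hlt not_lt_bot
    | coe d =>
      have h2 : ((r : ℕ) : ℕ∞) < d := WithBot.coe_lt_coe.1 hlt
      refine WithBot.coe_le_coe.2 ?_
      push_cast
      exact Order.add_one_le_of_lt h2
  obtain ⟨l, hl⟩ := Order.le_krullDim_iff.1 h1
  let j : ↥C' → ↥C := Set.inclusion hC'C
  have hji : Topology.IsInducing j := Topology.IsInducing.of_comp (g := (Subtype.val : ↥C → Y))
    (continuous_subtype_val.subtype_mk _) continuous_subtype_val Topology.IsInducing.subtypeVal
  have hje : Topology.IsEmbedding j := ⟨hji, Set.inclusion_injective hC'C⟩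
  let l' := l.map (IrreducibleCloseds.map j hje.continuous) (IrreducibleCloseds.map_strictMono_of_isInducing hji)
  obtain ⟨K, hK, hsub⟩ := exists_mem_irreducibleComponents_subset_of_isIrreducible _ l'.last.isIrreducible
  let t : IrreducibleCloseds ↥C := ⟨K, hK.1, isClosed_of_mem_irreducibleComponents _ hK⟩
  have hlast : l'.last < t := by
    refine lt_of_le_of_ne hsub fun he => ?_
    have hm : gp ⟨K, hK⟩ ∈ (l'.last : Set ↥C) := by rw [he]; exact (hgp ⟨K, hK⟩).mem
    have hin : (l'.last : Set ↥C) ⊆ {x : ↥C | (x : Y) ∈ C'} := by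
      rw [show l'.last = IrreducibleCloseds.map j hje.continuous l.last from LTSeries.last_map _ _ _,
        IrreducibleCloseds.coe_map]
      refine closure_minimal ?_ (hC'c.preimage continuous_subtype_val)
      rintro _ ⟨y, -, rfl⟩
      exact y.2
    exact Set.disjoint_left.1 hdisj ⟨⟨K, hK⟩, rfl⟩ (hin hm)
  have h3 := (Order.LTSeries.length_le_krullDim (l'.snoc t hlast)).trans hr
  have h4 : l'.length = r + 1 := hl
  rw [RelSeries.snoc_length, h4] at h3
  exact absurd h3 (not_le.2 (by exact_mod_cast Nat.lt_succ_self (r + 1)))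

variable (k : Type u) [Field k] {X : Scheme.{u}} [X.Over (Spec (CommRingCat.of k))]
  [IsProper (X ↘ Spec (CommRingCat.of k))]

/-- **Growth below the dimension.** -/
theorem exists_bound {L : X.Modules} (hL : PicF.IsInvertible L) (hg : Curv2.IsGloballyGenerated L) :
    ∀ (r : ℕ) (C : Closeds X), topologicalKrullDim ↥(C : Set X) ≤ (r : WithBot ℕ∞) →
      ∀ F : X.Modules, Coh.IsCoh F → CohB1.support F ⊆ C → ∀ i, 1 ≤ i →
        ∃ B : ℕ, ∀ n : ℕ, Module.finrank k (Coh.HH X (CohB1.tensorMod F (CohB1.tensorPow L n)) i) ≤ B * w r n := by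
  haveI := CurveCohLib.isNoetherian_of_proper (k := k) (X := X)
  haveI : X.IsSeparated := ⟨by
    rw [show terminal.from X = (X ↘ Spec (CommRingCat.of k)) ≫ terminal.from _ from
      terminal.hom_ext _ _]
    infer_instance⟩
  intro r
  induction r with
  | zero =>
    intro C hC F hF hFC i hi
    refine ⟨0, fun n => ?_⟩
    haveI := Snapper.subsingleton_HH_of_dim_lt 1 C (hC.trans_lt (by exact_mod_cast Nat.one_pos)) _
      (AmpleVan.isCoh_tensor hF (AmpleVan.isCoh_invertible (InvX.isInvertible_tensorPow hL n))).1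
      (fun x hx => hFC (BigVol.support_tensor_left hx)) i hi
    rw [Module.finrank_zero_of_subsingleton]
    exact Nat.zero_le _
  | succ r IH =>
    intro C hC F hF hFC i hi
    obtain ⟨G, hG, hGdim⟩ := exists_gen_points C.isClosed
    obtain ⟨m, hm, s, hs⟩ := exists_pow_avoid hL hg ((finite_wass hF).union hG).toFinset
    rw [Set.Finite.coe_toFinset] at hs
    let N := CohB1.tensorPow L m
    have hN : PicF.IsInvertible N := InvX.isInvertible_tensorPow hL m
    haveI := SectCut.mono_mulSect s hF fun y hy => hs (Or.inl hy)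
    let S := ShortComplex.mk (SectCut.mulSect s F) (cokernel.π (SectCut.mulSect s F)) (cokernel.condition _)
    have hS : S.ShortExact := .mk' (ShortComplex.exact_of_g_is_cokernel _ (cokernelIsCokernel _))
      inferInstance (inferInstanceAs (Epi (cokernel.π _)))
    let C' : Closeds X := ⟨(C : Set X) \ TrivBasic.locus s, C.isClosed.sdiff (TrivBasic.locus s).2⟩
    obtain ⟨B, hB⟩ := IH C' (hGdim _ C'.isClosed Set.sdiff_subset
      (Set.disjoint_left.2 fun y hy hy' => hy'.2 (hs (Or.inr hy))) r hC) _ (SectCut.isCoh_cut hN s hF)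
      (fun y hy => ⟨hFC (SectCut.support_cut hN s hF hy).1, (SectCut.support_cut hN s hF hy).2⟩) i hi
    let f : ℕ → ℕ := fun n => Module.finrank k (Coh.HH X (CohB1.tensorMod F (CohB1.tensorPow L n)) i)
    have hstep : ∀ n, f (n + m) ≤ f n + B * w r n := fun n => by
      have hP := InvX.isInvertible_tensorPow hL n
      obtain ⟨f₁, g₁, e₁, hS₁⟩ := NefBig.ses_twist hS hP
      have hPc := AmpleVan.isCoh_invertible hP
      have h := CohGrowth.finrank_mid_le' k (S := ShortComplex.mk f₁ g₁ e₁) hS₁
        (AmpleVan.isCoh_tensor (SectCut.isCoh_left InvX.isInvertible_structureModule hF) hPc)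
        (AmpleVan.isCoh_tensor (SectCut.isCoh_left hN hF) hPc)
        (AmpleVan.isCoh_tensor (SectCut.isCoh_cut hN s hF) hPc) i
      have he : ∀ M M' : X.Modules, PicF.cl M = PicF.cl M' →
          Module.finrank k (Coh.HH X M i) = Module.finrank k (Coh.HH X M' i) := fun M M' h =>
        (CurveCohLib.hhEquiv (k := k) (PicMul.cl_eq_iff.1 h).some i).finrank_eq
      have e1 : Module.finrank k (Coh.HH X (CohB1.tensorMod (CohB1.tensorMod (Coh.structureModule X) F)
          (CohB1.tensorPow L n)) i) = f n := he _ _ (by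
        rw [PicMul.cl_tensor, PicMul.cl_tensor, PicMul.cl_tensor, ← PicMul.one_def, _root_.one_mul])
      have e2 : Module.finrank k (Coh.HH X (CohB1.tensorMod (CohB1.tensorMod N F)
          (CohB1.tensorPow L n)) i) = f (n + m) := he _ _ (by
        simp only [N, PicMul.cl_tensor, PicMul.cl_tensorPow, pow_add]
        ac_rfl)
      refine (e2.symm.le.trans h).trans (Nat.add_le_add e1.le (hB n))
    refine ⟨(Finset.range m).sup f + B, fun n => ?_⟩
    have key : ∀ n, f n ≤ (Finset.range m).sup f + B * (n * w r n) := fun n => by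
      induction n using Nat.strong_induction_on with
      | _ n ih =>
        rcases lt_or_ge n m with h | h
        · exact le_add_right (Finset.le_sup (f := f) (Finset.mem_range.2 h))
        · obtain ⟨n', rfl⟩ := Nat.exists_eq_add_of_le' h
          have h1 := (hstep n').trans (Nat.add_le_add_right (ih n' (by omega)) _)
          refine h1.trans ?_
          rw [add_assoc, ← Nat.mul_add, ← Nat.succ_mul]
          exact Nat.add_le_add_left (Nat.mul_le_mul_left _
            (Nat.mul_le_mul (by omega) (w_mono (Nat.le_add_right _ _)))) _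
    refine (key n).trans ?_
    rw [w_succ, Nat.add_mul]
    exact Nat.add_le_add (Nat.le_mul_of_pos_right _ (pow_pos (Nat.succ_pos _) _))
      (Nat.mul_le_mul_left _ (mul_w_le _ _))

end Groth.Agent.CohGlobGrowth
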